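import Cfsg.Agent.Lib.Techniques.StableControl
import Cfsg.Agent.Lib.LocalEven.InvFreeZJ
import Cfsg.Agent.Lib.Blocks.PPart
import Cfsg.Agent.Lib.Large.Tools
import Cfsg.Prelude.Def_LocalEven
import Cfsg.Prelude.Def_Transfer

/-!
Finite groups with one class of nontrivial `p`-elements whose centralizers have all their
`p`-regular elements in the `p'`-core: the Sylow `p`-subgroups are elementary abelian.
-/

set_option autoImplicit false
set_option linter.unusedSectionVars false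
set_option linter.style.haveILetI false

namespace CfsgLib.OneSection

open Cfsg Subgroup CfsgLib.PLocal

universe u

variable {G : Type u} [Group G] [Finite G] {p : ℕ} [hp : Fact p.Prime]

/-- All `p`-regular elements of centralizers of nontrivial `p`-elements lie in a normal
`p'`-subgroup of the centralizer. -/
def CentReg (p : ℕ) (G : Type u) [Group G] : Prop :=
  ∀ y : G, y ≠ 1 → (∃ k, orderOf y = p ^ k) → ∃ O : Subgroup G, ¬ p ∣ Nat.card O ∧
    (∀ c ∈ centralizer ({y} : Set G), ∀ w ∈ O, c * w * c⁻¹ ∈ O) ∧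
    ∀ g ∈ centralizer ({y} : Set G), ¬ p ∣ orderOf g → g ∈ O

omit hp in
theorem exists_orderOf_eq_pow [Fact p.Prime] {Q : Subgroup G} (hQ : IsPGroup p Q) {x : G}
    (hx : x ∈ Q) : ∃ k, orderOf x = p ^ k := by
  obtain ⟨k, hk⟩ := IsPGroup.iff_orderOf.1 hQ ⟨x, hx⟩
  exact ⟨k, by rwa [Subgroup.orderOf_mk] at hk⟩

/-- A `p`-regular element normalizing `Q` and centralizing `y` centralizes `C_Q(y)`. -/
theorem CentReg.comm (hc : CentReg p G) {Q : Subgroup G} (hQ : IsPGroup p Q) {y : G} (hy1 : y ≠ 1)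
    (hy : ∃ k, orderOf y = p ^ k) {t : G} (ht : t * y = y * t) (htp : ¬ p ∣ orderOf t) {q : G}
    (hq : q ∈ Q) (hqy : q * y = y * q) (htq : t * q * t⁻¹ ∈ Q) : t * q = q * t := by
  obtain ⟨O, hO, hOn, hOr⟩ := hc y hy1 hy
  have htO : t ∈ O := hOr t (mem_centralizer_singleton_iff.2 ht) htp
  set c := t * q * t⁻¹ * q⁻¹ with hcdef
  have hcO : c ∈ O := by
    have h := O.mul_mem htO (hOn q (mem_centralizer_singleton_iff.2 hqy) _ (O.inv_mem htO))
    rwa [show t * (q * t⁻¹ * q⁻¹) = c by rw [hcdef]; group] at h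
  obtain ⟨k, hk⟩ := exists_orderOf_eq_pow hQ (Q.mul_mem htq (Q.inv_mem hq) : c ∈ Q)
  have hreg : ¬ p ∣ orderOf c := fun h => hO (h.trans (Subgroup.orderOf_dvd_natCard O hcO))
  have h1 : c = 1 := CfsgLib.Blocks.eq_one_of_pow_order_dvd hp.out hk.dvd hreg
  rw [hcdef, mul_inv_eq_one, mul_inv_eq_iff_eq_mul] at h1
  exact h1

/-- A `p`-regular element normalizing `Q` and fixing a nontrivial element of `Q` centralizes `Q`. -/
theorem CentReg.centralizes (hc : CentReg p G) {Q : Subgroup G} (hQ : IsPGroup p Q) {g : G}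
    (hg : g ∈ normalizer (Q : Set G)) (hgp : ¬ p ∣ orderOf g) {y : G} (hy : y ∈ Q) (hy1 : y ≠ 1)
    (hgy : g * y = y * g) : g ∈ centralizer (Q : Set G) := by
  set Q0 := Q ⊓ centralizer ({g} : Set G) with hQ0
  have hmem0 : ∀ q, q ∈ Q0 ↔ q ∈ Q ∧ q * g = g * q := fun q => by
    rw [hQ0, mem_inf, mem_centralizer_singleton_iff]
  have hQ0p : IsPGroup p Q0 := hQ.to_le inf_le_left
  have hy0 : y ∈ Q0 := (hmem0 y).2 ⟨hy, hgy.symm⟩
  -- `C_Q(Q0) ≤ Q0`
  have hcen : ∀ q ∈ Q, (∀ z ∈ Q0, q * z = z * q) → q ∈ Q0 := by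
    haveI : Nontrivial Q0 := ⟨⟨⟨y, hy0⟩, 1, fun h => hy1 (congrArg Subtype.val h)⟩⟩
    haveI := hQ0p.center_nontrivial
    obtain ⟨⟨⟨z, hz0⟩, hzc⟩, hz1⟩ := exists_ne (1 : Subgroup.center Q0)
    have hz1' : z ≠ 1 := fun h => hz1 (Subtype.ext (Subtype.ext h))
    intro q hq hcomm
    refine (hmem0 q).2 ⟨hq, ?_⟩
    exact (hc.comm hQ hz1' (exists_orderOf_eq_pow hQ0p hz0) ((hmem0 z).1 hz0).2.symm hgp hq
      (hcomm z hz0) (((mem_normalizer_iff.1 hg) q).1 hq)).symm
  by_contra hcon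
  have hne : Q0.subgroupOf Q < ⊤ := lt_top_iff_ne_top.2 fun h => hcon (mem_centralizer_iff.2
    fun q hq => ((hmem0 q).1 (subgroupOf_eq_top.1 h hq)).2)
  haveI : Group.IsNilpotent Q := hQ.isNilpotent
  obtain ⟨⟨x, hxQ⟩, hxN, hx0⟩ := SetLike.exists_of_lt
    (Group.normalizerCondition_of_isNilpotent _ hne)
  have hx0' : x ∉ Q0 := fun h => hx0 (mem_subgroupOf.2 h)
  have hxconj : ∀ q ∈ Q0, x * q * x⁻¹ ∈ Q0 := fun q hq => by
    have := ((mem_normalizer_iff.1 hxN) ⟨q, ((hmem0 q).1 hq).1⟩).1 (mem_subgroupOf.2 hq)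
    exact mem_subgroupOf.1 this
  set c := x⁻¹ * (g * x * g⁻¹) with hcdef
  have hcQ : c ∈ Q := Q.mul_mem (Q.inv_mem hxQ) (((mem_normalizer_iff.1 hg) x).1 hxQ)
  have hc0 : c ∈ Q0 := by
    refine hcen c hcQ fun q hq => ?_
    have h1 : g * q * g⁻¹ = q := by rw [← ((hmem0 q).1 hq).2, mul_inv_cancel_right]
    have h2 : g * (x * q * x⁻¹) * g⁻¹ = x * q * x⁻¹ := by
      rw [← ((hmem0 _).1 (hxconj q hq)).2, mul_inv_cancel_right]
    calc c * q = x⁻¹ * (g * x * (g⁻¹ * (g * q * g⁻¹) * g) * g⁻¹) := by rw [h1, hcdef]; group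
      _ = x⁻¹ * (g * (x * q * x⁻¹) * g⁻¹) * (g * x * g⁻¹) := by group
      _ = x⁻¹ * (x * q * x⁻¹) * (g * x * g⁻¹) := by rw [h2]
      _ = q * c := by rw [hcdef]; group
  have hgx : ∀ n : ℕ, g ^ n * x * (g ^ n)⁻¹ = x * c ^ n := by
    intro n
    induction n with
    | zero => simp
    | succ n ih =>
      have hcg : Commute g (c ^ n) := ((Commute.symm ((hmem0 c).1 hc0).2)).pow_right n
      calc g ^ (n + 1) * x * (g ^ (n + 1))⁻¹ = g * (g ^ n * x * (g ^ n)⁻¹) * g⁻¹ := by
            rw [pow_succ']; group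
        _ = g * x * (c ^ n * g⁻¹) := by rw [ih]; group
        _ = g * x * (g⁻¹ * c ^ n) := by rw [(hcg.inv_left).eq]
        _ = x * c * c ^ n := by rw [hcdef]; group
        _ = x * c ^ (n + 1) := by rw [pow_succ', mul_assoc]
  have h := hgx (orderOf g)
  rw [pow_orderOf_eq_one, one_mul, inv_one, mul_one, left_eq_mul] at h
  obtain ⟨k, hk⟩ := exists_orderOf_eq_pow hQ hcQ
  have hc1 : c = 1 := CfsgLib.Blocks.eq_one_of_pow_order_dvd hp.out hk.dvd
    fun hd => hgp (hd.trans (orderOf_dvd_of_pow_eq_one h))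
  refine hx0' ((hmem0 x).2 ⟨hxQ, ?_⟩)
  rw [hcdef, inv_mul_eq_one, eq_mul_inv_iff_mul_eq] at hc1
  exact hc1

theorem endo_unipotent_pow {W : Type*} [AddCommGroup W] [Module (ZMod p) W]
    {e : Module.End (ZMod p) W} (h : (e - 1) * (e - 1) = 0) : e ^ p = 1 := by
  have key : ∀ n : ℕ, e ^ n = 1 + (n : Module.End (ZMod p) W) * (e - 1) := by
    intro n
    induction n with
    | zero => simp
    | succ n ih =>
      rw [pow_succ, ih, Nat.cast_succ]
      calc (1 + (n : Module.End (ZMod p) W) * (e - 1)) * e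
          = e + ((n : Module.End (ZMod p) W) * (e - 1) +
              (n : Module.End (ZMod p) W) * ((e - 1) * (e - 1))) := by noncomm_ring
        _ = 1 + ((n : Module.End (ZMod p) W) + 1) * (e - 1) := by rw [h]; noncomm_ring
  have hp0 : (p : Module.End (ZMod p) W) = 0 := by
    rw [← map_natCast (algebraMap (ZMod p) (Module.End (ZMod p) W)) p, ZMod.natCast_self, map_zero]
  rw [key p, hp0, zero_mul, add_zero]

/-- Such a group is normalizer `p`-stable for odd `p`. -/
theorem CentReg.isNormalizerPStable (hp2 : p ≠ 2) (hc : CentReg p G) : IsNormalizerPStable p G := by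
  intro Q hQ g hg hq
  by_contra hn
  set N := normalizer (Q : Set G) with hN
  haveI : (Q.subgroupOf N).Normal := normal_in_normalizer
  have hQN : Q ≤ N := le_normalizer
  set B := Q.subgroupOf N with hBdef
  have hB : IsPGroup p B := hQ.comap_subtype
  have hCeq : centralizer ((B : Subgroup N) : Set N) = (centralizer (Q : Set G)).subgroupOf N := by
    ext x
    rw [mem_subgroupOf, mem_centralizer_iff, mem_centralizer_iff]
    exact ⟨fun hx a ha => congrArg Subtype.val (hx ⟨a, hQN ha⟩ (mem_subgroupOf.2 ha)),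
      fun hx a ha => Subtype.ext (hx a (mem_subgroupOf.1 ha))⟩
  set a : N := ⟨g, hg⟩ with ha
  have hqN : ⁅⁅B, zpowers a⁆, zpowers a⁆ = ⊥ := by
    rw [← map_eq_bot_iff_of_injective _ N.subtype_injective, map_commutator, map_commutator,
      MonoidHom.map_zpowers, map_subgroupOf_eq_of_le hQN]
    exact hq
  have hna : a ∉ stabD p B := fun h => hn
    ((mk_mem_pCore_iff_of_surjective (p := p) (MonoidHom.id N) (fun y => ⟨y, rfl⟩)
      ((centralizer (Q : Set G)).subgroupOf N) (centralizer ((B : Subgroup N) : Set N))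
      (by rw [hCeq, comap_id]) a).1 (mem_stabD_iff.1 h))
  haveI := frattini_map_normal B
  set Φ := (frattini B).map B.subtype with hΦ
  haveI : (B.map (QuotientGroup.mk' Φ)).Normal :=
    (inferInstance : B.Normal).map _ (QuotientGroup.mk'_surjective Φ)
  set V := B.map (QuotientGroup.mk' Φ) with hV
  obtain ⟨W, hW1, hW2, hW3, ρ, hρ, hsq⟩ :=
    exists_rep_quotient V (elementaryAbelian_map_frattini B hB)
  set π := (QuotientGroup.mk' (centralizer (V : Set (N ⧸ Φ)))).comp (QuotientGroup.mk' Φ) with hπdef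
  have hπ : Function.Surjective π :=
    (QuotientGroup.mk'_surjective _).comp (QuotientGroup.mk'_surjective Φ)
  have hsqa := hsq (QuotientGroup.mk' Φ a) (map_quadratic _ bot_le hqN.le)
  have hnπ : π a ∉ pCore p _ := fun h =>
    hna (CfsgLib.LocalEven.Inversion.comap_stabD_frattini_le B hB h)
  have hπap : π a ^ p = 1 := hρ (by rw [map_pow, map_one]; exact endo_unipotent_pow hsqa)
  obtain ⟨z, hz2, hza⟩ := CfsgLib.LocalEven.QuadCommute.exists_involution_commute hp2 ρ hρ
    (a := π a) hsqa hnπ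
  obtain ⟨w, hw⟩ := hπ (z * π a)
  obtain ⟨u, t, hut, hcut, ⟨k, hku⟩, htp⟩ := CfsgLib.Blocks.exists_isPPart hp.out w
  -- `t` is not in the kernel, `u` is not trivial
  have hu1 : u ≠ 1 := by
    intro h
    rw [h, one_mul] at hut
    have h1 : (z * π a) ^ orderOf t = 1 := by rw [← hw, ← hut, ← map_pow, pow_orderOf_eq_one, map_one]
    have h2 : π a ^ (2 * orderOf t) = 1 := by
      have h3 : (z * π a) ^ (2 * orderOf t) = 1 := by rw [mul_comm, pow_mul, h1, one_pow]
      rwa [(show Commute z (π a) from hza).mul_pow, pow_mul z, show z ^ 2 = 1 from hz2 ▸ pow_orderOf_eq_one z, one_pow,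
        one_mul] at h3
    have h4 : π a = 1 := by
      rcases (Nat.dvd_prime hp.out).1 (orderOf_dvd_of_pow_eq_one hπap) with h5 | h5
      · exact orderOf_eq_one_iff.1 h5
      · have h6 : p ∣ 2 * orderOf t := h5 ▸ orderOf_dvd_of_pow_eq_one h2
        rcases hp.out.dvd_mul.1 h6 with h7 | h7
        · exact absurd ((Nat.prime_dvd_prime_iff_eq hp.out Nat.prime_two).1 h7) hp2
        · exact absurd h7 htp
    exact hnπ (h4 ▸ one_mem _)
  have ht1 : π t ≠ 1 := by
    intro h
    have h1 : (z * π a) ^ (p ^ k) = 1 := by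
      rw [← hw, ← hut, map_mul, h, mul_one, ← map_pow, ← hku, pow_orderOf_eq_one, map_one]
    have h2 : z ^ (p ^ (k + 1)) = 1 := by
      have h3 : (z * π a) ^ (p ^ (k + 1)) = 1 := by rw [pow_succ, pow_mul, h1, one_pow]
      rwa [(show Commute z (π a) from hza).mul_pow,
        show π a ^ p ^ (k + 1) = 1 by rw [pow_succ', pow_mul, hπap, one_pow], mul_one] at h3
    have h4 : 2 ∣ p ^ (k + 1) := hz2 ▸ orderOf_dvd_of_pow_eq_one h2
    exact hp2 ((Nat.prime_dvd_prime_iff_eq Nat.prime_two hp.out).1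
      (Nat.prime_two.dvd_of_dvd_pow h4)).symm
  -- a fixed point of `u` on `Q`
  have hu1' : (u : G) ≠ 1 := fun h => hu1 (Subtype.ext h)
  have hup : ∃ k, orderOf (u : G) = p ^ k := ⟨k, by rw [Subgroup.orderOf_coe, hku]⟩
  have htp' : ¬ p ∣ orderOf (t : G) := by rwa [Subgroup.orderOf_coe]
  have hQne : Q ≠ ⊥ := by
    intro h
    apply hn
    rw [(QuotientGroup.eq_one_iff _).2 (mem_subgroupOf.2 ?_)]
    · exact one_mem _
    · rw [mem_centralizer_iff]
      intro x hx
      rw [h, SetLike.mem_coe, mem_bot] at hx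
      simp [hx]
  obtain ⟨⟨y, hyQ, hyu⟩, hy1⟩ : ∃ y : ↥(Q ⊓ centralizer ((zpowers (u : G) : Subgroup G) : Set G)), y ≠ 1 := by
    haveI := (nontrivial_iff_ne_bot _).2 (CfsgLib.Large.inf_centralizer_ne_bot hQ
      (IsPGroup.of_card (n := k) (by rw [Nat.card_zpowers, Subgroup.orderOf_coe, hku])) hQne
      (zpowers_le.2 u.2))
    exact exists_ne 1
  have hy1' : y ≠ 1 := fun h => hy1 (Subtype.ext h)
  have htu : (t : G) * u = u * t := (congrArg Subtype.val hcut.eq).symm
  have hty : (t : G) * y = y * t := hc.comm hQ hu1' hup htu htp' hyQ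
    (mem_centralizer_iff.1 hyu _ (mem_zpowers _)).symm (((mem_normalizer_iff.1 t.2) y).1 hyQ)
  have htQ := hc.centralizes hQ t.2 htp' hyQ hy1' hty
  refine ht1 ?_
  show QuotientGroup.mk' _ (QuotientGroup.mk' Φ t) = 1
  refine (QuotientGroup.eq_one_iff _).2 (mem_centralizer_iff.2 ?_)
  rintro _ ⟨b, hb, rfl⟩
  rw [← map_mul, ← map_mul]
  exact congrArg _ (Subtype.ext (mem_centralizer_iff.1 htQ b (mem_subgroupOf.1 hb)))

/-- If all nontrivial `p`-elements are conjugate then they have order `p`. -/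
theorem pow_eq_one_of_conj
    (hconj : ∀ y y' : G, y ≠ 1 → y' ≠ 1 → (∃ k, orderOf y = p ^ k) → (∃ k, orderOf y' = p ^ k) →
      IsConj y y') {P : Subgroup G} (hP : IsPGroup p P) : ∀ a ∈ P, a ^ p = 1 := by
  intro a ha
  by_cases ha1 : a = 1
  · simp [ha1]
  obtain ⟨k, hk⟩ := exists_orderOf_eq_pow hP ha
  obtain ⟨k, rfl⟩ : ∃ j, k = j + 1 := Nat.exists_eq_succ_of_ne_zero (by
    rintro rfl
    exact ha1 (orderOf_eq_one_iff.1 (by simpa using hk)))
  have h1 : orderOf (a ^ p ^ k) = p := by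
    rw [orderOf_pow, hk, pow_succ, Nat.gcd_mul_right_left,
      Nat.mul_div_cancel_left _ (pow_pos hp.out.pos k)]
  obtain ⟨c, hcc⟩ := isConj_iff.1 (hconj a (a ^ p ^ k) ha1
    (fun h => hp.out.ne_one (by rw [← h1, h, orderOf_one])) ⟨_, hk⟩ ⟨1, by rw [h1, pow_one]⟩)
  rw [← hcc, show c * a * c⁻¹ = MulAut.conj c a from rfl, MulEquiv.orderOf_eq] at h1
  rw [← h1, pow_orderOf_eq_one]

/-- One class of nontrivial `p`-elements with `p'`-closed centralizers: Sylow subgroups are
elementary abelian. -/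
theorem CentReg.isElementaryAbelian (hc : CentReg p G)
    (hconj : ∀ y y' : G, y ≠ 1 → y' ≠ 1 → (∃ k, orderOf y = p ^ k) → (∃ k, orderOf y' = p ^ k) →
      IsConj y y') (P : Sylow p G) : IsElementaryAbelian p (P : Subgroup G) := by
  have hexp := pow_eq_one_of_conj hconj P.2
  refine ⟨isMulCommutative_of_forall fun x hx y hy => ?_, hexp⟩
  by_cases hp2 : p = 2
  · subst hp2
    have h : ∀ a ∈ (P : Subgroup G), a⁻¹ = a := fun a ha =>
      inv_eq_of_mul_eq_one_left (by rw [← pow_two]; exact hexp a ha)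
    calc x * y = (x * y)⁻¹ := (h _ (mul_mem hx hy)).symm
      _ = y * x := by rw [mul_inv_rev, h x hx, h y hy]
  by_cases hP : Subsingleton (P : Subgroup G)
  · have := congrArg Subtype.val (Subsingleton.elim (⟨x, hx⟩ : (P : Subgroup G)) 1)
    simp only [OneMemClass.coe_one] at this
    simp [this]
  haveI : Nontrivial (P : Subgroup G) := not_subsingleton_iff_nontrivial.1 hP
  haveI := P.2.center_nontrivial
  obtain ⟨⟨⟨z, hzP⟩, hzc⟩, hz1⟩ := exists_ne (1 : Subgroup.center (P : Subgroup G))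
  have hz1' : z ≠ 1 := fun h => hz1 (Subtype.ext (Subtype.ext h))
  set W := centerJ 0 (P : Subgroup G) with hW
  have hzW : z ∈ W := mem_centerJ_of_centralizes hzP (pow_zero z) (mem_centralizer_iff.2 fun b hb =>
    congrArg Subtype.val (Subgroup.mem_center_iff.1 hzc ⟨b, thompson_le 0 _ hb⟩))
  have hall : ∀ b ∈ (P : Subgroup G), b ∈ W := by
    intro b hb
    by_cases hb1 : b = 1
    · rw [hb1]; exact one_mem _
    obtain ⟨c, hcc⟩ := isConj_iff.1 (hconj z b hz1' hb1 (exists_orderOf_eq_pow P.2 hzP)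
      (exists_orderOf_eq_pow P.2 hb))
    have h2 : (zpowers z).map (MulAut.conj c).toMonoidHom ≤ (P : Subgroup G) := by
      rw [MonoidHom.map_zpowers, zpowers_le]
      show c * z * c⁻¹ ∈ _
      rwa [hcc]
    have hct := CfsgLib.Techniques.StableQuot.fusCtrl_zJA (p := p) hp2 G
      (hc.isNormalizerPStable hp2) P _ c (mem_top c) (zpowers_le.2 hzP) h2
    rw [CfsgLib.Techniques.Fusion.stepGroups, Set.image_singleton] at hct
    obtain ⟨h, hh, hh'⟩ := hct.exists_mem
    rw [CfsgLib.Techniques.StableQuot.inducedFunctor_zJAFun] at hh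
    have h3 := hh' z (mem_zpowers z)
    rw [hcc] at h3
    rw [← h3]
    exact ((mem_normalizer_iff.1 hh) z).1 hzW
  haveI : IsMulCommutative W := centerJ_isMulCommutative 0 _
  exact congrArg Subtype.val ((‹IsMulCommutative W›).is_comm.comm ⟨x, hall x hx⟩ ⟨y, hall y hy⟩)

end CfsgLib.OneSection
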