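import Cfsg.Agent.Lib.OneSection.Count
import Cfsg.Agent.Lib.OneSection.Group
import Cfsg.Agent.Lib.Blocks.ThirdMain
import Cfsg.Agent.Lib.Blocks.BlockKernel
import Cfsg.Agent.Lib.BlockCover.FongReynoldsBlocks
import Cfsg.Agent.Lib.Blk7.Fong
import Cfsg.Agent.Lib.WeightedSum.Over
import Cfsg.Agent.Lib.PCore.PSolvable

/-!
Blocks with `k(B) ≤ l(B) + 1` that are principal, or belong to a `p`-solvable group, have
elementary abelian defect groups.
-/

set_option autoImplicit false
set_option linter.style.haveILetI false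
set_option linter.unusedSectionVars false

noncomputable section

namespace CfsgLib.OneSection

open Cfsg CfsgLib.Characters CfsgLib.Blocks CfsgLib.Blk7 CfsgLib.CharCorr

universe u

variable {G : Type u} [Group G] [Fintype G] {p : ℕ} {M : Ideal AlgInt} [hp : Fact p.Prime]

omit [Fintype G] hp in
theorem isElementaryAbelian_map {H : Type*} [Group H] (f : G →* H) {A : Subgroup G}
    (h : IsElementaryAbelian p A) : IsElementaryAbelian p (A.map f) := by
  obtain ⟨hc, he⟩ := h
  refine ⟨CfsgLib.PLocal.isMulCommutative_of_forall ?_, ?_⟩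
  · rintro _ ⟨x, hx, rfl⟩ _ ⟨y, hy, rfl⟩
    have := congrArg Subtype.val (hc.is_comm.comm ⟨x, hx⟩ ⟨y, hy⟩)
    simp only [MulMemClass.coe_mul] at this
    rw [← map_mul, this, map_mul]
  · rintro _ ⟨x, hx, rfl⟩
    rw [← map_pow, he x hx, map_one]

/-- A defect group of full order is a Sylow subgroup and all nontrivial `p`-elements are
conjugate. -/
theorem isConj_of_full (hM : IsPModular p M) {B : Set (IrrCharacter G)} (hB : IsPBlock M B)
    (hk : Nat.card B ≤ blockRank p B + 1) {D : Subgroup G} (hD : IsDefectGroup p M B D)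
    (hfull : blockDefect p B = (Nat.card G).factorization p) :
    ∃ P : Sylow p G, (P : Subgroup G) = D ∧
      ∀ y y' : G, y ≠ 1 → y' ≠ 1 → (∃ k, orderOf y = p ^ k) → (∃ k, orderOf y' = p ^ k) →
        IsConj y y' ∧ Module.finrank ℂ (regSpan p (inducing M y B)) ≤ 1 := by
  have hcard : Nat.card D = p ^ (Nat.card G).factorization p := by
    rw [BlockCover.natCard_defect hM hB hD, hfull]
  refine ⟨Sylow.ofCard D hcard, rfl, fun y y' hy hy' ho ho' => ?_⟩
  have hmem : ∀ z : G, (∃ k, orderOf z = p ^ k) → ∃ E, IsDefectGroup p M B E ∧ z ∈ E := by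
    rintro z ⟨k, hkz⟩
    obtain ⟨Q, hQ⟩ := (IsPGroup.of_card (by rw [Nat.card_zpowers, hkz]) :
      IsPGroup p (Subgroup.zpowers z)).exists_le_sylow
    obtain ⟨t, ht⟩ := MulAction.exists_smul_eq G (Sylow.ofCard D hcard) Q
    refine ⟨D.map (MulAut.conj t).toMonoidHom, BlockCover.isDefectGroup_conj hM hB hD t, ?_⟩
    have := hQ (Subgroup.mem_zpowers z)
    rw [← ht, Sylow.coe_subgroup_smul] at this
    exact this
  obtain ⟨E, hE, hyE⟩ := hmem y ho
  obtain ⟨E', hE', hyE'⟩ := hmem y' ho'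
  exact oneSection hM hB hk hE hE' hyE hy hyE' hy'

theorem blockDefect_principal (hM : IsPModular p M) :
    blockDefect p (principalBlock M G) = (Nat.card G).factorization p := by
  have h1 : (charDegree ((principalIrr G : IrrCharacter G) : G → ℂ)).factorization p = 0 := by
    simp [charDegree, principalIrr]
  rw [BlockCover.blockDefect_eq (principalIrr_mem hM) (fun ψ _ => by rw [h1]; exact Nat.zero_le _),
    h1, Nat.sub_zero]

/-- The principal case. -/
theorem principal_case (hM : IsPModular p M)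
    (hk : Nat.card (principalBlock M G) ≤ blockRank p (principalBlock M G) + 1) {D : Subgroup G}
    (hD : IsDefectGroup p M (principalBlock M G) D) : IsElementaryAbelian p D := by
  classical
  obtain ⟨P, rfl, hall⟩ := isConj_of_full hM (isPBlock_principalBlock M) hk hD
    (blockDefect_principal hM)
  refine CentReg.isElementaryAbelian (fun y hy1 hy => ?_) (fun y y' h h' ho ho' => (hall y y' h h' ho ho').1) P
  set C := Subgroup.centralizer ({y} : Set G) with hC
  have : Fintype C := Fintype.ofFinite _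
  obtain ⟨K, hKn, hK⟩ := exists_blockKerSubgroup (principalBlock M C)
  refine ⟨K.map C.subtype, ?_, ?_, ?_⟩
  · rw [Subgroup.card_map_of_injective C.subtype_injective]
    exact not_dvd_card_blockKer hM (isPBlock_principalBlock M) hK
  · rintro c hc _ ⟨w, hw, rfl⟩
    exact ⟨⟨c, hc⟩ * w * ⟨c, hc⟩⁻¹, hKn.conj_mem w hw ⟨c, hc⟩, rfl⟩
  intro g hg hgp
  refine ⟨⟨g, hg⟩, ?_, rfl⟩
  refine (Set.ext_iff.1 hK ⟨g, hg⟩).2 ?_
  intro ξ hξ
  have hind : IsInducedBlock M C (principalBlock M C) (principalBlock M G) :=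
    (isInducedBlock_principal_iff hM C
      (inducedBlockDefined_centralizer hM hy (isPBlock_principalBlock M))).2 rfl
  have hmem : ∀ η ∈ principalBlock M C,
      regPart p ((η : IrrCharacter C) : C → ℂ) ∈ regSpan p (inducing M y (principalBlock M G)) := by
    intro η hη
    refine Submodule.subset_span ⟨η, ?_, rfl⟩
    show IsInducedBlock M _ (blockOf M _) _
    rwa [← IsPBlock.eq_blockOf hM (isPBlock_principalBlock M) hη]
  set S := regSpan p (inducing M y (principalBlock M G)) with hS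
  set v : S := ⟨regPart p ((principalIrr C : IrrCharacter C) : C → ℂ), hmem _ (principalIrr_mem hM)⟩
    with hv
  have hne : ∀ {z : C}, ¬ p ∣ orderOf z → (v : C → ℂ) z = 1 := fun {z} hz => by
    rw [hv]
    show regPart p _ z = 1
    rw [regPart_apply_of_regular hz]
    simp [principalIrr]
  have h1reg : ¬ p ∣ orderOf (1 : C) := by rw [orderOf_one]; exact hM.1.not_dvd_one
  have hv0 : v ≠ 0 := fun h => one_ne_zero (α := ℂ) (by
    rw [← hne h1reg, h]; rfl)
  obtain ⟨c, hc⟩ := exists_smul_eq_of_finrank_eq_one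
    (le_antisymm (hall y y hy1 hy1 hy hy).2 (Nat.one_le_iff_ne_zero.2 fun h0 => hv0 (Subtype.ext (by
      have h2 := v.2
      exact (Submodule.eq_bot_iff _).1 (Submodule.finrank_eq_zero.1 h0) _ h2)))) hv0 ⟨_, hmem ξ hξ⟩
  have hval : ∀ {z : C}, ¬ p ∣ orderOf z → (ξ : C → ℂ) z = c := fun {z} hz => by
    have := congrFun (congrArg Subtype.val hc) z
    simp only [SetLike.val_smul, Pi.smul_apply, smul_eq_mul, hne hz, mul_one,
      regPart_apply_of_regular hz] at this
    exact this.symm
  rw [hval (by rwa [← Subgroup.orderOf_coe]), hval h1reg]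

/-- One class of nontrivial `p`-elements in a `p`-solvable group: the Sylow subgroups are elementary
abelian. -/
theorem isElementaryAbelian_of_pSolvable (hsolv : IsPSolvable p G)
    (hconj : ∀ y y' : G, y ≠ 1 → y' ≠ 1 → (∃ k, orderOf y = p ^ k) → (∃ k, orderOf y' = p ^ k) →
      IsConj y y') (P : Sylow p G) : IsElementaryAbelian p (P : Subgroup G) := by
  classical
  refine ⟨CfsgLib.PLocal.isMulCommutative_of_forall fun a ha b hb => ?_,
    pow_eq_one_of_conj hconj P.2⟩
  set K := pPrimeCore p G with hK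
  set π := QuotientGroup.mk' K with hπ
  have hπs : Function.Surjective π := QuotientGroup.mk'_surjective K
  have hKp : ¬ p ∣ Nat.card K := CfsgLib.PCore.not_dvd_card_pPrimeCore
  have hinj : ∀ x ∈ (P : Subgroup G), π x = 1 → x = 1 := by
    intro x hx h
    obtain ⟨k, hk⟩ := exists_orderOf_eq_pow P.2 hx
    exact eq_one_of_pow_order_dvd hp.out hk.dvd
      fun h' => hKp (h'.trans (Subgroup.orderOf_dvd_natCard K ((QuotientGroup.eq_one_iff x).1 h)))
  by_cases ha1 : a = 1
  · simp [ha1]
  have hnt : Nontrivial (G ⧸ K) := ⟨⟨π a, 1, fun h => ha1 (hinj a ha h)⟩⟩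
  set V := pCore p (G ⧸ K) with hV
  haveI : V.Normal := pCore_normal p _
  have hVP : V ≤ (P : Subgroup G).map π := by
    have h := CfsgLib.PCore.pCore_le_sylow (P.mapSurjective hπs)
    rwa [Sylow.coe_mapSurjective] at h
  -- a normal subgroup meeting the image of `P` contains it
  have habs : ∀ W : Subgroup (G ⧸ K), W.Normal → W ≠ ⊥ → W ≤ (P : Subgroup G).map π →
      (P : Subgroup G).map π ≤ W := by
    intro W hWn hW hWP
    obtain ⟨w, hw, hw1⟩ := W.bot_or_exists_ne_one.resolve_left hW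
    obtain ⟨y, hy, rfl⟩ := hWP hw
    rintro _ ⟨x, hx, rfl⟩
    by_cases hx1 : x = 1
    · rw [hx1, map_one]; exact one_mem _
    obtain ⟨c, hc⟩ := isConj_iff.1 (hconj y x (fun h => hw1 (by rw [h, map_one])) hx1
      (exists_orderOf_eq_pow P.2 hy) (exists_orderOf_eq_pow P.2 hx))
    rw [← hc, map_mul, map_mul, map_inv]
    exact hWn.conj_mem _ hw _
  have hV1 : V ≠ ⊥ := CfsgLib.PCore.pCore_ne_bot
    (CfsgLib.PCore.isPSolvable_of_surjective π hπs hsolv) CfsgLib.PCore.pPrimeCore_quotient_pPrimeCore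
  have hPV := habs V inferInstance hV1 hVP
  set Z := V ⊓ Subgroup.centralizer (V : Set (G ⧸ K)) with hZ
  have hZ1 : Z ≠ ⊥ := by
    have hVp : IsPGroup p V := CfsgLib.PCore.pCore_isPGroup
    haveI : Nontrivial V := (Subgroup.nontrivial_iff_ne_bot _).2 hV1
    haveI := hVp.center_nontrivial
    obtain ⟨⟨⟨z, hzV⟩, hzc⟩, hz1⟩ := exists_ne (1 : Subgroup.center V)
    intro h
    have hz : z ∈ Z := ⟨hzV, Subgroup.mem_centralizer_iff.2 fun v hv =>
      congrArg Subtype.val (Subgroup.mem_center_iff.1 hzc ⟨v, hv⟩)⟩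
    rw [h, Subgroup.mem_bot] at hz
    exact hz1 (Subtype.ext (Subtype.ext hz))
  have hPZ := habs Z inferInstance hZ1 (inf_le_left.trans hVP)
  have h1 : π b * π a = π a * π b := Subgroup.mem_centralizer_iff.1
    (hPZ ⟨a, ha, rfl⟩).2 (π b) (hPV ⟨b, hb, rfl⟩)
  refine commutatorElement_eq_one_iff_mul_comm.1 (hinj _ ?_ ?_)
  · rw [commutatorElement_def]
    exact mul_mem (mul_mem (mul_mem ha hb) (inv_mem ha)) (inv_mem hb)
  · rw [map_commutatorElement, commutatorElement_eq_one_iff_mul_comm]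
    exact h1.symm

section Stabiliser

variable (N : Subgroup G) [hN : N.Normal] [Fintype N] (b : Set (IrrCharacter N)) (T : Subgroup G)
  [Fintype T] (hNT : N ≤ T)
  (hT : ∀ g : G, g ∈ T ↔ ∀ θ ∈ b, conjIrr N g θ ∈ b)

include hT in
theorem indFun_injective (hM : IsPModular p M) (hb : IsPBlock M b) {ψ ψ' : IrrCharacter T}
    (hψ : ∃ θ ∈ b, classInner (fun n : N => (ψ : T → ℂ) ⟨(n : G), hNT n.2⟩) (θ : N → ℂ) ≠ 0)
    (hψ' : ∃ θ ∈ b, classInner (fun n : N => (ψ' : T → ℂ) ⟨(n : G), hNT n.2⟩) (θ : N → ℂ) ≠ 0)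
    {χ : IrrCharacter G} (h : (χ : G → ℂ) = indFun T (ψ : T → ℂ))
    (h' : (χ : G → ℂ) = indFun T (ψ' : T → ℂ)) : ψ = ψ' := by
  apply Subtype.ext
  funext t
  have hc := classSum_mem_center (k := ℂ) t
  have h1 := BlockCover.omega_indFun_relTr N b T hT hNT hM hb hψ h hc
  rw [BlockCover.omega_indFun_relTr N b T hT hNT hM hb hψ' h' hc, omega_classSum_irr,
    omega_classSum_irr] at h1
  have hdeg : (ψ : T → ℂ) 1 = (ψ' : T → ℂ) 1 := by
    have h2 := congrFun (h.symm.trans h') 1
    rw [Induction.indFun_one_apply, Induction.indFun_one_apply] at h2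
    exact mul_left_cancel₀ (Nat.cast_ne_zero.2 Subgroup.index_ne_zero_of_finite) h2
  unfold centralChar at h1
  rw [hdeg, div_left_inj' (irr_one_ne_zero ψ'), mul_right_inj'
    (Nat.cast_ne_zero.2 Subgroup.index_ne_zero_of_finite)] at h1
  exact h1.symm

end Stabiliser

/-- Induction from a subgroup commutes with the `p`-regular part. -/
theorem pRegularPart_indFun (T : Subgroup G) [Fintype T] (f : T → ℂ) :
    pRegularPart p (indFun T f) = indFun T (pRegularPart p f) := by
  classical
  funext g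
  have key : ∀ (x : G) (hx : x⁻¹ * g * x ∈ T),
      IsPRegular p (⟨x⁻¹ * g * x, hx⟩ : T) ↔ IsPRegular p g := fun x hx => by
    unfold IsPRegular
    rw [Subgroup.orderOf_mk, show x⁻¹ * g * x = MulAut.conj x⁻¹ g by simp, MulEquiv.orderOf_eq]
  rw [pRegularPart_apply, Induction.indFun_apply, Induction.indFun_apply]
  split_ifs with hg
  · congr 1
    refine Finset.sum_congr rfl fun x _ => ?_
    by_cases hx : x⁻¹ * g * x ∈ T
    · rw [Induction.extendByZero_mem T _ hx, Induction.extendByZero_mem T _ hx, pRegularPart_apply,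
        if_pos ((key x hx).2 hg)]
    · rw [Induction.extendByZero_notMem T _ hx, Induction.extendByZero_notMem T _ hx]
  · symm
    refine mul_eq_zero_of_right _ (Finset.sum_eq_zero fun x _ => ?_)
    by_cases hx : x⁻¹ * g * x ∈ T
    · rw [Induction.extendByZero_mem T _ hx, pRegularPart_apply,
        if_neg (fun h => hg ((key x hx).1 h))]
    · exact Induction.extendByZero_notMem T _ hx

/-- The `p`-solvable case. -/
theorem pSolvable_case_aux (hM : IsPModular p M) :
    ∀ (n : ℕ) (G : Type u) [Group G] [Fintype G], Nat.card G < n → IsPSolvable p G →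
      ∀ (B : Set (IrrCharacter G)), IsPBlock M B → Nat.card B ≤ blockRank p B + 1 →
        ∀ D : Subgroup G, IsDefectGroup p M B D → IsElementaryAbelian p D := by
  classical
  intro n
  induction n with
  | zero => intro G _ _ h; omega
  | succ n ih =>
    intro G _ _ hcardG hsolv B hB hk D hD
    obtain ⟨χ, hχ⟩ := IsPBlock.nonempty hM hB
    set K := pPrimeCore p G with hK
    haveI : Fintype K := Fintype.ofFinite _
    have hKp : ¬ p ∣ Nat.card K := CfsgLib.PCore.not_dvd_card_pPrimeCore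
    obtain ⟨θ, hθ⟩ := BlockCover.exists_constituent K χ
    set b : Set (IrrCharacter K) := {θ} with hbdef
    have hb : IsPBlock M b := WeightedSum.isPBlock_singleton hM hKp θ
    set T : Subgroup G :=
      { carrier := {g | conjIrr K g θ = θ}
        one_mem' := BlockCover.conjIrr_one K θ
        mul_mem' := fun {a c} ha hc => by
          show conjIrr K (a * c) θ = θ
          rw [← BlockCover.conjIrr_comp, ha, hc]
        inv_mem' := fun {a} ha => by
          show conjIrr K a⁻¹ θ = θ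
          conv_lhs => rw [← ha, BlockCover.conjIrr_comp, mul_inv_cancel, BlockCover.conjIrr_one] }
      with hTdef
    have hT : ∀ g : G, g ∈ T ↔ ∀ θ' ∈ b, conjIrr K g θ' ∈ b := fun g => by
      simp [b, T]
    haveI : Fintype T := Fintype.ofFinite _
    have hKT : K ≤ T := fun k hk => by
      show conjIrr K k θ = θ
      refine Subtype.ext (funext fun m => ?_)
      rw [conjIrr_apply]
      exact (congrArg (θ : K → ℂ) (Subtype.ext (by simp))).trans (irr_isClassFunction θ m ⟨k, hk⟩)
    by_cases htop : T = ⊤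
    · have hinv : ∀ (g : G) (m : K),
          (θ : K → ℂ) ⟨g * m * g⁻¹, (inferInstance : K.Normal).conj_mem m m.2 g⟩ = (θ : K → ℂ) m := by
        intro g m
        have h1 : conjIrr K g θ = θ :=
          show g ∈ T from htop.ge (Subgroup.mem_top g)
        conv_rhs => rw [← h1, conjIrr_apply]
      have hfull := CfsgLib.Fong.blockDefect_eq K hM hsolv hK θ hinv hB fun ψ hψ m =>
        CfsgLib.Fong.restrict_eq K θ.2 hinv (constituent_of_sameBlock hM hKp
          ((IsPBlock.mem_iff hM hB hχ ψ).1 hψ) θ hθ) m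
      obtain ⟨P, rfl, hall⟩ := isConj_of_full hM hB hk hD hfull
      exact isElementaryAbelian_of_pSolvable hsolv (fun y y' h h' ho ho' => (hall y y' h h' ho ho').1) P
    have hlt : Nat.card T < n :=
      lt_of_lt_of_le (lt_of_le_of_ne (Subgroup.card_le_card_group T)
        fun h => htop (Subgroup.eq_top_of_card_eq T h)) (Nat.lt_succ_iff.1 hcardG)
    obtain ⟨ψ₀, hcov, hψ₀χ⟩ := BlockCover.exists_of_covers K b T hT hKT hM hb ⟨θ, rfl, hθ⟩
    set B' := blockOf M (ψ₀ : T → ℂ) with hB'def
    have hB' : IsPBlock M B' := isPBlock_blockOf ψ₀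
    have hψ₀ : ψ₀ ∈ B' := mem_blockOf_self hM ψ₀
    obtain ⟨B₂, hind, -, hirr, hmem⟩ :=
      BlockCover.fongReynolds_induced K b T hKT hT hM hb hB' hψ₀ hcov
    have hBB : B₂ = B := by
      have h1 := (hmem χ).2 ⟨ψ₀, hψ₀, hψ₀χ⟩
      rw [IsPBlock.eq_blockOf hM hind.2.1 h1, IsPBlock.eq_blockOf hM hB hχ]
    subst hBB
    have hover : ∀ ψ ∈ B', ∃ θ' ∈ b, classInner (fun m : K => (ψ : T → ℂ) ⟨(m : G), hKT m.2⟩)
        (θ' : K → ℂ) ≠ 0 := fun ψ hψ => BlockCover.over_of_sameBlock K b T hKT hT hM hb hcov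
      ((IsPBlock.mem_iff hM hB' hψ₀ ψ).1 hψ)
    let Φ : B' → B₂ := fun ψ => ⟨⟨_, hirr ψ.1 ψ.2⟩, (hmem _).2 ⟨ψ.1, ψ.2, rfl⟩⟩
    have hΦ : Function.Injective Φ := fun ψ ψ' h => Subtype.ext
      (indFun_injective K b T hKT hT hM hb (hover ψ.1 ψ.2) (hover ψ'.1 ψ'.2)
        (χ := (Φ ψ).1) rfl (by rw [h]))
    have hkB : Nat.card B' ≤ Nat.card B₂ := Nat.card_le_card_of_injective Φ hΦ
    have hlB : blockRank p B₂ ≤ blockRank p B' := by
      let L : (T → ℂ) →ₗ[ℂ] (G → ℂ) := Induction.indLinear T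
      have hle : regSpan p B₂ ≤ (regSpan p B').map L := by
        refine Submodule.span_le.2 ?_
        rintro _ ⟨η, hη, rfl⟩
        obtain ⟨ψ, hψ, he⟩ := (hmem η).1 hη
        refine ⟨pRegularPart p (ψ : T → ℂ), Submodule.subset_span ⟨ψ, hψ, rfl⟩, ?_⟩
        show indFun T _ = _
        rw [← pRegularPart_indFun, ← he]
      rw [blockRank_eq, blockRank_eq]
      exact (Submodule.finrank_mono hle).trans (Submodule.finrank_map_le _ _)
    obtain ⟨E, hE⟩ : ∃ E : Subgroup T, IsDefectGroup p M B' E := exists_isDefectGroup hM hB'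
    have hab := ih T hlt (CfsgLib.PCore.isPSolvable_subgroup hsolv T) B' hB' (by omega) E hE
    obtain ⟨t, rfl⟩ := BlockCover.defectGroup_conjugate hM hB
      ((BlockCover.fongReynolds_defect K b T hKT hT hM hb hB' hψ₀ hcov hind).1 E hE) hD
    exact isElementaryAbelian_map _ (isElementaryAbelian_map _ hab)

/-- The `p`-solvable case. -/
theorem pSolvable_case (hM : IsPModular p M) (hsolv : IsPSolvable p G) {B : Set (IrrCharacter G)}
    (hB : IsPBlock M B) (hk : Nat.card B ≤ blockRank p B + 1) {D : Subgroup G}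
    (hD : IsDefectGroup p M B D) : IsElementaryAbelian p D :=
  pSolvable_case_aux hM _ G (Nat.lt_succ_self _) hsolv B hB hk D hD

end CfsgLib.OneSection
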