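import Cfsg.Agent.Lib.Blocks.LocalCount
import Cfsg.Agent.Lib.BlockCover.BrauerHom
import Cfsg.Agent.Lib.BlockCover.DefectGroup

/-!
Blocks with a single nontrivial section: `k(B) ≤ l(B) + 1`.
-/

set_option autoImplicit false
set_option linter.unusedSectionVars false

noncomputable section

namespace CfsgLib.OneSection

open Cfsg CfsgLib.Characters CfsgLib.Blocks CfsgLib.Blk7

universe u

variable {G : Type u} [Group G] [Fintype G] {p : ℕ} {M : Ideal AlgInt} [hp : Fact p.Prime]

/-- An element of a defect group sees at least one Brauer character of the centralizer. -/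
theorem one_le_finrank_inducing (hM : IsPModular p M) {B : Set (IrrCharacter G)} (hB : IsPBlock M B)
    {D : Subgroup G} (hD : IsDefectGroup p M B D) {y : G} (hy : y ∈ D) :
    1 ≤ Module.finrank ℂ (regSpan p (inducing M y B)) := by
  classical
  set C := Subgroup.centralizer ({y} : Set G) with hC
  have : Fintype C := Fintype.ofFinite _
  set P := Subgroup.zpowers y with hP
  have hPp : IsPGroup p P := (BlockCover.isPGroup_defect hM hD).to_le (Subgroup.zpowers_le.2 hy)
  have hcent : Subgroup.centralizer (P : Set G) = C := by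
    rw [hP, hC, Subgroup.zpowers_eq_closure, Subgroup.centralizer_closure]
  have hPC : P ≤ C := by
    refine Subgroup.zpowers_le.2 (Subgroup.mem_centralizer_singleton_iff.2 rfl)
  have hCN : C ≤ Subgroup.normalizer (P : Set G) := hcent ▸ Subgroup.centralizer_le_normalizer _
  obtain ⟨g, hg, S, rfl⟩ := id hD
  obtain ⟨b, hb⟩ := (BlockCover.exists_induced_iff hM hPp hPC hcent.le hCN hB).2
    ⟨g, by
      rw [hcent, hC, Subgroup.mem_centralizer_singleton_iff]
      exact Subgroup.mem_centralizer_singleton_iff.1 (Subgroup.map_subtype_le _ hy) |>.symm, hg.2.1⟩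
  obtain ⟨ξ, hξ⟩ := IsPBlock.nonempty hM hb.1
  have hmem : ξ ∈ inducing M y B := by
    show IsInducedBlock M _ (blockOf M _) B
    rwa [← IsPBlock.eq_blockOf hM hb.1 hξ]
  refine Nat.one_le_iff_ne_zero.2 fun h0 => irr_one_ne_zero ξ ?_
  have h1 : regPart p (ξ : C → ℂ) ∈ regSpan p (inducing M y B) :=
    Submodule.subset_span ⟨ξ, hmem, rfl⟩
  rw [Submodule.finrank_eq_zero.1 h0, Submodule.mem_bot] at h1
  rw [← regPart_apply_of_regular (p := p) (f := (ξ : C → ℂ)) (g := 1)
    (by rw [orderOf_one]; exact hM.1.not_dvd_one), h1]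
  rfl

theorem exists_reps_pair (y y' : G) (hy : y ≠ 1) (hy' : y' ≠ 1) (hord : ∃ k, orderOf y = p ^ k)
    (hord' : ∃ k, orderOf y' = p ^ k) (hne : y = y' ∨ ¬ IsConj y y') :
    ∃ X : Finset G, 1 ∈ X ∧ y ∈ X ∧ y' ∈ X ∧ (∀ x ∈ X, ∃ k : ℕ, orderOf x = p ^ k) ∧
      ∀ g : G, (∃ k : ℕ, orderOf g = p ^ k) → ∃! x, x ∈ X ∧ IsConj g x := by
  classical
  let rep : G → G := fun g => if IsConj g y then y else if IsConj g y' then y' else
    if g = 1 then 1 else (ConjClasses.mk g).out
  have hrep : ∀ g, IsConj g (rep g) := by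
    intro g
    simp only [rep]
    split_ifs with h1 h2 h3
    · exact h1
    · exact h2
    · rw [h3]
    · exact (ConjClasses.mk_eq_mk_iff_isConj.1 (Quotient.out_eq (ConjClasses.mk g))).symm
  have hwd : ∀ g h : G, IsConj g h → rep g = rep h := by
    intro g h hgh
    simp only [rep]
    have e1 : IsConj g y ↔ IsConj h y := ⟨fun h1 => hgh.symm.trans h1, fun h1 => hgh.trans h1⟩
    have e2 : IsConj g y' ↔ IsConj h y' := ⟨fun h1 => hgh.symm.trans h1, fun h1 => hgh.trans h1⟩
    have e3 : g = 1 ↔ h = 1 := ⟨fun h1 => isConj_one_right.1 (h1 ▸ hgh), fun h1 => isConj_one_left.1 (h1 ▸ hgh)⟩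
    have e4 : ConjClasses.mk g = ConjClasses.mk h := ConjClasses.mk_eq_mk_iff_isConj.2 hgh
    simp only [e1, e2, e3, e4]
  have hord2 : ∀ {g h : G}, IsConj g h → orderOf g = orderOf h := by
    intro g h hgh
    obtain ⟨c, rfl⟩ := isConj_iff.1 hgh
    exact ((MulAut.conj c).orderOf_eq g).symm
  set S : Finset G := Finset.univ.filter fun g => ∃ k : ℕ, orderOf g = p ^ k
  have hS : ∀ g, g ∈ S ↔ ∃ k : ℕ, orderOf g = p ^ k := fun g => by simp [S]
  refine ⟨S.image rep, ?_, ?_, ?_, ?_, fun g hg => ⟨rep g, ⟨Finset.mem_image_of_mem _ ((hS g).2 hg),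
    hrep g⟩, ?_⟩⟩
  · refine Finset.mem_image.2 ⟨1, (hS 1).2 ⟨0, by simp⟩, ?_⟩
    have h1 : ¬ IsConj (1 : G) y := fun h => hy (isConj_one_right.1 h)
    have h2 : ¬ IsConj (1 : G) y' := fun h => hy' (isConj_one_right.1 h)
    show ite _ _ _ = 1
    rw [if_neg h1, if_neg h2, if_pos rfl]
  · exact Finset.mem_image.2 ⟨y, (hS y).2 hord, if_pos (IsConj.refl y)⟩
  · refine Finset.mem_image.2 ⟨y', (hS y').2 hord', ?_⟩
    rcases hne with h | h
    · subst h
      exact if_pos (IsConj.refl y)
    · show ite _ _ _ = y'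
      rw [if_neg (fun h1 => h h1.symm), if_pos (IsConj.refl y')]
  · intro x hx
    obtain ⟨g, hg, rfl⟩ := Finset.mem_image.1 hx
    rw [← hord2 (hrep g)]
    exact (hS g).1 hg
  · rintro x ⟨hx, hgx⟩
    obtain ⟨h, -, rfl⟩ := Finset.mem_image.1 hx
    exact (hwd g h (hgx.trans (hrep h).symm)).symm

/-- With one Brauer character less than ordinary ones, all nontrivial elements of defect groups are
conjugate and each sees at most one Brauer character of its centralizer. -/
theorem oneSection (hM : IsPModular p M) {B : Set (IrrCharacter G)} (hB : IsPBlock M B)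
    (hk : Nat.card B ≤ blockRank p B + 1) {D D' : Subgroup G} (hD : IsDefectGroup p M B D)
    (hD' : IsDefectGroup p M B D') {y y' : G} (hy : y ∈ D) (hy1 : y ≠ 1) (hy' : y' ∈ D')
    (hy1' : y' ≠ 1) :
    IsConj y y' ∧ Module.finrank ℂ (regSpan p (inducing M y B)) ≤ 1 := by
  classical
  have hordD : ∀ {E : Subgroup G}, IsDefectGroup p M B E → ∀ {z : G}, z ∈ E →
      ∃ k, orderOf z = p ^ k := by
    intro E hE z hz
    obtain ⟨k, hk⟩ := IsPGroup.iff_orderOf.1 (BlockCover.isPGroup_defect hM hE) ⟨z, hz⟩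
    exact ⟨k, by rwa [Subgroup.orderOf_mk] at hk⟩
  set F : G → ℕ := fun z => Module.finrank ℂ (regSpan p (inducing M z B))
  have key : ∀ z z' : G, z ≠ 1 → z' ≠ 1 → (∃ k, orderOf z = p ^ k) → (∃ k, orderOf z' = p ^ k) →
      (z = z' ∨ ¬ IsConj z z') →
      blockRank p B + F z ≤ Nat.card B ∧ (z ≠ z' → blockRank p B + (F z + F z') ≤ Nat.card B) := by
    intro z z' hz hz' ho ho' hne
    obtain ⟨X, h1, hzX, hz'X, hX, hXr⟩ := exists_reps_pair z z' hz hz' ho ho' hne
    have h := card_block_eq hM hB X hX hXr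
    rw [← Finset.add_sum_erase _ _ h1, finrank_regSpan_inducing_one hM hB] at h
    have hzX' : z ∈ X.erase 1 := Finset.mem_erase.2 ⟨hz, hzX⟩
    have hz'X' : z' ∈ X.erase 1 := Finset.mem_erase.2 ⟨hz', hz'X⟩
    refine ⟨?_, fun hzz => ?_⟩
    · rw [h]
      exact Nat.add_le_add_left (Finset.single_le_sum (f := F) (fun _ _ => Nat.zero_le _) hzX') _
    · rw [h]
      refine Nat.add_le_add_left ?_ _
      rw [← Finset.sum_pair (f := F) hzz]
      exact Finset.sum_le_sum_of_subset (Finset.insert_subset hzX' (Finset.singleton_subset_iff.2 hz'X'))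
  refine ⟨?_, ?_⟩
  · by_contra hconj
    have h := (key y y' hy1 hy1' (hordD hD hy) (hordD hD' hy') (Or.inr hconj)).2
      (fun h => hconj (h ▸ IsConj.refl y))
    have h1 := one_le_finrank_inducing hM hB hD hy
    have h2 := one_le_finrank_inducing hM hB hD' hy'
    simp only [F] at h
    omega
  · have h := (key y y hy1 hy1 (hordD hD hy) (hordD hD hy) (Or.inl rfl)).1
    simp only [F] at h
    omega

end CfsgLib.OneSection
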